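import Groth.Agent.CohTopLib.ColimCoh
import Groth.Agent.CohTopLib.RpushColim

/-!
# Cohomology of compact quasi-separated opens commutes with filtered colimits
-/

set_option linter.unusedSectionVars false
set_option linter.style.haveILetI false
set_option backward.isDefEq.respectTransparency false

universe u
open CategoryTheory CategoryTheory.Limits TopologicalSpace Opposite CategoryTheory.Abelian
open CohTopLib (rsS rsS_app rsS_rsS app_map_comp app_w exists_common exists_stage_eq germ_stk)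
open CohTopLib.ColimCoh (gdFun gdιNat sub_comp isBasis_compact)
open CohTopLib.FlasqueRes

namespace ColimQsLib

variable {X : TopCat.{u}}

/-- The compact opens inside `U` are stable under intersection. -/
def QsIn (U : Opens X) : Prop :=
  ∀ V W : Opens X, V ≤ U → W ≤ U → IsCompact (V : Set X) → IsCompact (W : Set X) →
    IsCompact ((V ⊓ W : Opens X) : Set X)

theorem QsIn.mono {U V : Opens X} (h : QsIn U) (hVU : V ≤ U) : QsIn V :=
  fun A B hA hB => h A B (hA.trans hVU) (hB.trans hVU)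

variable {J : Type u} [SmallCategory J] [IsFiltered J] in
/-- Every section over a quasi-compact open of the colimit comes from a stage. -/
theorem exists_stage_section {D : J ⥤ CohTop.Ab X} {c : Cocone D} (hc : IsColimit c)
    (hB : Opens.IsBasis {V : Opens X | IsCompact (V : Set X)}) (U : Opens X) (hqs : QsIn U)
    (hU : IsCompact (U : Set X)) (s : c.pt.obj.obj (op U)) :
    ∃ (k : J) (t : (D.obj k).obj.obj (op U)), (c.ι.app k).hom.app (op U) t = s := by
  classical
  have hloc : ∀ y : (U : Set X), ∃ (W : Opens X) (hW : W ≤ U) (_ : IsCompact (W : Set X)) (k : J)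
      (t : (D.obj k).obj.obj (op W)), y.1 ∈ W ∧ (c.ι.app k).hom.app (op W) t = rsS c.pt hW s := by
    rintro ⟨y, hy⟩
    have hc' := isColimitOfPreserves (stk y) hc
    obtain ⟨k, z, hz⟩ := Concrete.isColimit_exists_rep (D ⋙ stk y) hc'
      (TopCat.Presheaf.germ (X := X) c.pt.obj U y hy s)
    obtain ⟨V, hyV, t, rfl⟩ := TopCat.Presheaf.germ_exist (x := y) (D.obj k).obj z
    have e1 := (germ_stk y (c.ι.app k) V hyV t).symm.trans hz
    obtain ⟨W, hyW, iV, iU, hW⟩ := TopCat.Presheaf.germ_eq c.pt.obj y hyV hy _ _ e1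
    obtain ⟨W', hW'c, hyW', hle⟩ := Opens.isBasis_iff_nbhd.mp hB hyW
    refine ⟨W', hle.trans (leOfHom iU), hW'c, k, rsS _ (hle.trans (leOfHom iV)) t, hyW', ?_⟩
    have h2 : rsS c.pt (leOfHom iV) ((c.ι.app k).hom.app (op V) t) = rsS c.pt (leOfHom iU) s := hW
    exact (rsS_app _ _ _).trans ((rsS_rsS c.pt (leOfHom iV) hle _).symm.trans
      ((congrArg _ h2).trans (rsS_rsS c.pt _ _ s)))
  choose W hWU hWc k t hyW ht using hloc
  obtain ⟨S, hS⟩ := hU.elim_finite_subcover (fun y => (W y : Set X)) (fun y => (W y).2)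
    (fun y hy => Set.mem_iUnion.mpr ⟨⟨y, hy⟩, hyW ⟨y, hy⟩⟩)
  obtain ⟨K₀, hK₀⟩ := IsFiltered.sup_objs_exists (S.image k)
  let b : ∀ y : S, k y.1 ⟶ K₀ := fun y =>
    (hK₀ (Finset.mem_image_of_mem k y.2)).some
  let u : ∀ y : S, (D.obj K₀).obj.obj (op (W y.1)) := fun y => (D.map (b y)).hom.app _ (t y.1)
  have hu : ∀ y : S, (c.ι.app K₀).hom.app (op (W y.1)) (u y) = rsS c.pt (hWU y.1) s := fun y =>
    (app_w (W y.1) (b y) (t y.1)).trans (ht y.1)
  have hp : ∀ p : S × S, ∃ (K : J) (a : K₀ ⟶ K),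
      (D.map a).hom.app _ (rsS (D.obj K₀) (inf_le_left : W p.1.1 ⊓ W p.2.1 ≤ _) (u p.1)) =
        (D.map a).hom.app _ (rsS (D.obj K₀) (inf_le_right : W p.1.1 ⊓ W p.2.1 ≤ _) (u p.2)) := fun p =>
    exists_stage_eq hc _ (hqs _ _ (hWU _) (hWU _) (hWc p.1.1) (hWc p.2.1)) _ _ (by
      rw [rsS_app, rsS_app, hu, hu]
      exact (rsS_rsS c.pt _ _ s).trans (rsS_rsS c.pt _ _ s).symm)
  choose kk aa haa using hp
  obtain ⟨K, e, he⟩ := exists_common (Finset.univ : Finset (S × S)) aa
  let v : ∀ y : S, (D.obj K).obj.obj (op (W y.1)) := fun y => (D.map e).hom.app _ (u y)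
  have hcomp : TopCat.Presheaf.IsCompatible (D.obj K).obj (fun y : S => W y.1) v := fun y z => by
    obtain ⟨b, hb⟩ := he (y, z) (Finset.mem_univ _)
    change rsS (D.obj K) inf_le_left (v y) = rsS (D.obj K) inf_le_right (v z)
    change rsS (D.obj K) inf_le_left ((D.map e).hom.app _ (u y)) =
      rsS (D.obj K) inf_le_right ((D.map e).hom.app _ (u z))
    rw [← hb]
    exact (rsS_app _ _ _).symm.trans ((app_map_comp _ (aa (y, z)) b _).trans ((congrArg _ (haa (y, z))).trans
      ((app_map_comp _ (aa (y, z)) b _).symm.trans (rsS_app _ _ _))))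
  have hcov : U ≤ ⨆ y : S, W y.1 := fun x hx => by
    obtain ⟨y, hy, hxy⟩ := Set.mem_iUnion₂.mp (hS hx)
    exact Opens.mem_iSup.mpr ⟨⟨y, hy⟩, hxy⟩
  obtain ⟨r, hr, -⟩ := TopCat.Sheaf.existsUnique_gluing' (D.obj K : TopCat.Sheaf AddCommGrpCat X)
    (fun y : S => W y.1) U (fun y => homOfLE (hWU y.1)) hcov v hcomp
  refine ⟨K, r, TopCat.Sheaf.eq_of_locally_eq' (c.pt : TopCat.Sheaf AddCommGrpCat X)
    (fun y : S => W y.1) U (fun y => homOfLE (hWU y.1)) hcov _ _ fun y => ?_⟩
  change rsS c.pt (hWU y.1) _ = rsS c.pt (hWU y.1) s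
  refine (rsS_app (c.ι.app K) (hWU y.1) r).symm.trans ?_
  exact (congrArg _ (hr y)).trans ((app_w (W y.1) e (u y)).trans (hu y))

theorem isCompact_cap {ι : Type u} (U : ι → Opens X)
    (hqs : QsIn (iSup U)) (hU : ∀ i, IsCompact (U i : Set X)) : ∀ {n : ℕ} (J : Fin (n + 1) → ι),
    IsCompact (CechLib.cap U J : Set X) := by
  intro n
  induction n with
  | zero =>
    intro J
    have h : CechLib.cap U J = U (J 0) := le_antisymm (CechLib.cap_le U J 0)
      ((CechLib.le_cap_iff U).mpr fun a => by rw [Fin.fin_one_eq_zero a])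
    rw [h]; exact hU _
  | succ n ih =>
    intro J
    have h : CechLib.cap U J = U (J 0) ⊓ CechLib.cap U (fun a => J a.succ) :=
      le_antisymm (le_inf (CechLib.cap_le U J 0) ((CechLib.le_cap_iff U).mpr fun a => CechLib.cap_le U J a.succ))
        ((CechLib.le_cap_iff U).mpr fun a => by
          cases a using Fin.cases with
          | zero => exact inf_le_left
          | succ a => exact inf_le_right.trans (CechLib.cap_le U (fun b => J b.succ) a))
    rw [h]
    exact hqs _ _ (le_iSup U _) ((CechLib.cap_le U _ 0).trans (le_iSup U _)) (hU _) (ih _)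

variable [PrespectralSpace X]
variable {J : Type u} [SmallCategory J] [IsFiltered J]

/-- Colimits of Čech acyclic sheaves are acyclic over compact opens. -/
theorem subsingleton_HU_colim {D : J ⥤ QCohLib.AbSh X} {c : Cocone D} (hc : IsColimit c)
    (hD : ∀ (i : J) (ι : Type u) (V : ι → Opens X) (n : ℕ) (z : CechLib.Cochain V (D.obj i).obj (n + 1)),
      CechLib.dd V (D.obj i).obj (n + 1) z = 0 → ∃ b, CechLib.dd V (D.obj i).obj n b = z)
    (q : ℕ) (U : Opens X) (hU : IsCompact (U : Set X)) (hqsU : QsIn U) :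
    Subsingleton (QCohLib.HU c.pt (q + 1) U) := by
  classical
  refine CechLib.subsingleton_HU_of_cartan {V : Opens X | IsCompact (V : Set X) ∧ QsIn V}
    (fun ι V => (Finite ι ∧ ∀ i, IsCompact (V i : Set X)) ∧ QsIn (iSup V))
    (fun ι V hV p a => ⟨isCompact_cap V hV.2 hV.1.2 a, hV.2.mono ((CechLib.cap_le V a 0).trans (le_iSup V _))⟩)
    (fun U hU' κ W hW => ?_) c.pt (fun ι V hV' p => ?_) q U ⟨hU, hqsU⟩
  · obtain ⟨hU, hqsU'⟩ := hU'
    have hloc : ∀ y : (U : Set X), ∃ V : Opens X, IsCompact (V : Set X) ∧ y.1 ∈ V ∧ V ≤ U ∧ ∃ k, V ≤ W k := by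
      rintro ⟨y, hy⟩
      obtain ⟨k, hk⟩ := Opens.mem_iSup.mp (hW.symm ▸ hy : y ∈ iSup W)
      obtain ⟨V, hV, hyV, hle⟩ := Opens.isBasis_iff_nbhd.mp (isBasis_compact (X := X)) hk
      exact ⟨V, hV, hyV, hle.trans (hW ▸ le_iSup W k), k, hle⟩
    choose V hV hyV hVU k hk using hloc
    obtain ⟨t, ht⟩ := hU.elim_finite_subcover (fun y => (V y : Set X)) (fun y => (V y).2)
      (fun y hy => Set.mem_iUnion.mpr ⟨⟨y, hy⟩, hyV ⟨y, hy⟩⟩)
    refine ⟨t, fun y => V y.1, ⟨⟨inferInstance, fun y => hV y.1⟩, hqsU'.mono (iSup_le fun y => hVU y.1)⟩,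
      le_antisymm (iSup_le fun y => hVU y.1) ?_,
      fun y => ⟨k y.1, hk y.1⟩⟩
    intro x hx
    obtain ⟨y, hy, hxy⟩ := Set.mem_iUnion₂.mp (ht hx)
    exact Opens.mem_iSup.mpr ⟨⟨y, hy⟩, hxy⟩
  · obtain ⟨hV, hq⟩ := hV'
    rw [CechLib.isZero_homology_succ_iff]
    intro z hz
    haveI := hV.1
    haveI : Fintype ι := Fintype.ofFinite ι
    have hsurj : ∀ a : Fin (p + 2) → ι, ∃ (k : J) (s : (D.obj k).obj.obj (op (CechLib.cap V a))),
        (c.ι.app k).hom.app (op _) s = z a := fun a =>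
      exists_stage_section hc isBasis_compact _ (hq.mono ((CechLib.cap_le V a 0).trans (le_iSup V _)))
        (isCompact_cap V hq hV.2 a) (z a)
    choose k s hs using hsurj
    obtain ⟨K₀, hK₀⟩ := IsFiltered.sup_objs_exists (Finset.univ.image k)
    let e : ∀ a, k a ⟶ K₀ := fun a => (hK₀ (Finset.mem_image_of_mem k (Finset.mem_univ a))).some
    let z₀ : CechLib.Cochain V (D.obj K₀).obj (p + 1) := fun a => (D.map (e a)).hom.app (op _) (s a)
    have hz₀ : ∀ a, (c.ι.app K₀).hom.app (op _) (z₀ a) = z a := fun a =>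
      (app_w _ (e a) (s a)).trans (hs a)
    have hdd : ∀ {F G : QCohLib.AbSh X} (φ : F ⟶ G) (n : ℕ) (w : CechLib.Cochain V F.obj n)
        (a : Fin (n + 2) → ι),
        φ.hom.app (op _) (CechLib.dd V F.obj n w a) =
          CechLib.dd V G.obj n (fun b => φ.hom.app (op _) (w b)) a := by
      intro F G φ n w a
      rw [CechLib.dd_apply, CechLib.dd_apply, map_sum]
      refine Finset.sum_congr rfl fun j _ => ?_
      rw [map_zsmul]
      exact congrArg _ (CechLib.app_rs φ _ _)
    have heq : ∀ a : Fin (p + 3) → ι, ∃ (l : J) (f : K₀ ⟶ l),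
        (D.map f).hom.app (op _) (CechLib.dd V (D.obj K₀).obj (p + 1) z₀ a) = 0 := fun a => by
      obtain ⟨l, f, hf⟩ := exists_stage_eq hc _ (isCompact_cap V hq hV.2 a)
        (CechLib.dd V (D.obj K₀).obj (p + 1) z₀ a) 0 (by
          rw [map_zero, hdd]
          exact (congrArg (fun w => CechLib.dd V c.pt.obj (p + 1) w a) (funext hz₀)).trans (congrFun hz a))
      exact ⟨l, f, hf.trans (map_zero _)⟩
    choose l f hf using heq
    obtain ⟨K, g, hg⟩ := exists_common (Finset.univ : Finset (Fin (p + 3) → ι)) f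
    let z₁ : CechLib.Cochain V (D.obj K).obj (p + 1) := fun a => (D.map g).hom.app (op _) (z₀ a)
    obtain ⟨b, hb⟩ := hD K ι V p z₁ (funext fun a => by
      obtain ⟨g', hg'⟩ := hg a (Finset.mem_univ a)
      refine (hdd (D.map g) (p + 1) z₀ a).symm.trans ?_
      rw [← hg', app_map_comp, hf]
      exact map_zero _)
    refine ⟨fun a => (c.ι.app K).hom.app (op _) (b a), funext fun a => ?_⟩
    refine (hdd (c.ι.app K) p b a).symm.trans ?_
    rw [hb]
    exact (app_w _ g (z₀ a)).trans (hz₀ a)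

section Main

variable (U : Opens X) (hU : IsCompact (U : Set X)) (hqsU : QsIn U)

/-- Classes of a colimit come from stages and are detected at stages. -/
def Prop₁ (q : ℕ) : Prop :=
  ∀ (D : J ⥤ QCohLib.AbSh X) (c : Cocone D), IsColimit c →
    (∀ x : QCohLib.HU c.pt q U, ∃ (i : J) (y : QCohLib.HU (D.obj i) q U),
      y.comp (Ext.mk₀ (c.ι.app i)) (add_zero q) = x) ∧
    (∀ (i : J) (y : QCohLib.HU (D.obj i) q U), y.comp (Ext.mk₀ (c.ι.app i)) (add_zero q) = 0 →
      ∃ (k : J) (a : i ⟶ k), y.comp (Ext.mk₀ (D.map a)) (add_zero q) = 0)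

include hU hqsU

theorem prop₁_zero : Prop₁ (J := J) U 0 := by
  intro D c hc
  refine ⟨fun x => ?_, fun i y hy => ?_⟩
  · obtain ⟨i, s, hs⟩ := exists_stage_section hc isBasis_compact U hqsU hU (QCohLib.h0 x)
    refine ⟨i, QCohLib.h0.symm s, QCohLib.h0.injective ?_⟩
    rw [QCohLib.h0_comp, AddEquiv.apply_symm_apply]
    exact hs
  · obtain ⟨k, a, ha⟩ := exists_stage_eq hc U hU (QCohLib.h0 y) 0 (by
      rw [← QCohLib.h0_comp, hy, map_zero, map_zero])
    refine ⟨k, a, QCohLib.h0.injective ?_⟩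
    rw [QCohLib.h0_comp, ha, map_zero, map_zero]

set_option maxHeartbeats 1000000 in
theorem prop₁ : ∀ q : ℕ, Prop₁ (J := J) U q
  | 0 => prop₁_zero U hU hqsU
  | q + 1 => by
    have ih := prop₁ q
    intro D c hc
    haveI : IsGrothendieckAbelian.{u} (QCohLib.AbSh X) := QCohLib.isGrothendieckAbelian_abSh
    let ιD : D ⟶ D ⋙ gdFun := Functor.whiskerLeft D gdιNat
    haveI : ∀ j, Mono (ιD.app j) := fun j => CechLib.mono_gdι _
    haveI : Mono ιD := NatTrans.mono_of_mono_app _
    let S : ShortComplex (J ⥤ QCohLib.AbSh X) :=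
      ShortComplex.mk ιD (cokernel.π ιD) (cokernel.condition _)
    have hS : S.ShortExact :=
      { exact := ShortComplex.exact_of_g_is_cokernel _ (cokernelIsCokernel _)
        mono_f := inferInstanceAs (Mono ιD)
        epi_g := inferInstanceAs (Epi (cokernel.π ιD)) }
    let Sj := fun j => S.map ((evaluation J (QCohLib.AbSh X)).obj j)
    have hSj : ∀ j, (Sj j).ShortExact := fun j => hS.map_of_exact _
    haveI : PreservesFiniteLimits (colim : (J ⥤ QCohLib.AbSh X) ⥤ QCohLib.AbSh X) :=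
      HasExactColimitsOfShape.preservesFiniteLimits
    let S' := S.map (colim : (J ⥤ QCohLib.AbSh X) ⥤ QCohLib.AbSh X)
    have hS' : S'.ShortExact := hS.map_of_exact _
    let φ : ∀ j, Sj j ⟶ S' := fun j =>
      { τ₁ := colimit.ι S.X₁ j
        τ₂ := colimit.ι S.X₂ j
        τ₃ := colimit.ι S.X₃ j
        comm₁₂ := colimit.ι_map S.f j
        comm₂₃ := colimit.ι_map S.g j }
    let φm : ∀ {i k : J}, (i ⟶ k) → (Sj i ⟶ Sj k) := fun a =>
      { τ₁ := S.X₁.map a
        τ₂ := S.X₂.map a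
        τ₃ := S.X₃.map a
        comm₁₂ := S.f.naturality a
        comm₂₃ := S.g.naturality a }
    haveI hflj : ∀ j, Subsingleton (QCohLib.HU (Sj j).X₂ (q + 1) U) := fun j =>
      haveI : TopCat.Sheaf.IsFlasque ((Sj j).X₂ : TopCat.Sheaf AddCommGrpCat X) := CechLib.isFlasque_gd _
      QCohLib.subsingleton_of_isFlasque q _ U
    haveI hfl : Subsingleton (QCohLib.HU S'.X₂ (q + 1) U) :=
      subsingleton_HU_colim (colimit.isColimit S.X₂) (fun i ι V n z hz => CechLib.gd_cech (D.obj i) V n z hz) q U hU hqsU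
    obtain ⟨h3s, h3i⟩ := ih S.X₃ (colimit.cocone _) (colimit.isColimit _)
    obtain ⟨h2s, -⟩ := ih S.X₂ (colimit.cocone _) (colimit.isColimit _)
    have main : (∀ x : QCohLib.HU S'.X₁ (q + 1) U, ∃ (i : J) (y : QCohLib.HU (D.obj i) (q + 1) U),
          y.comp (Ext.mk₀ (colimit.ι D i)) (add_zero _) = x) ∧
        (∀ (i : J) (y : QCohLib.HU (D.obj i) (q + 1) U), y.comp (Ext.mk₀ (colimit.ι D i)) (add_zero _) = 0 →
          ∃ (k : J) (a : i ⟶ k), y.comp (Ext.mk₀ (D.map a)) (add_zero _) = 0) := by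
      refine ⟨fun x => ?_, fun i x hx => ?_⟩
      · obtain ⟨y, rfl⟩ := QCohLib.exists_eq_comp_extClass hS' x
        obtain ⟨i, z, rfl⟩ := h3s y
        refine ⟨i, z.comp (hSj i).extClass rfl, ?_⟩
        refine (Ext.comp_assoc_of_third_deg_zero _ _ _ _).trans ?_
        refine (congrArg (fun w => z.comp w rfl) (ShortComplex.ShortExact.extClass_naturality (hSj i) hS' (φ i))).trans ?_
        exact (Ext.comp_assoc_of_second_deg_zero _ _ _ _).symm
      · obtain ⟨z, rfl⟩ := QCohLib.exists_eq_comp_extClass (hSj i) x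
        have h0 : (z.comp (Ext.mk₀ (colimit.ι S.X₃ i)) (add_zero q)).comp hS'.extClass rfl = 0 := by
          refine Eq.trans ?_ hx
          refine Eq.trans ?_ (Ext.comp_assoc_of_third_deg_zero _ _ _ _).symm
          refine (Ext.comp_assoc_of_second_deg_zero _ _ _ _).trans ?_
          exact (congrArg (fun w => z.comp w rfl) (ShortComplex.ShortExact.extClass_naturality (hSj i) hS' (φ i))).symm
        obtain ⟨w, hw⟩ := Ext.covariant_sequence_exact₃ _ hS' _ rfl h0
        obtain ⟨k, t, rfl⟩ := h2s w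
        let l := IsFiltered.max i k
        let a : i ⟶ l := IsFiltered.leftToMax i k
        let b : k ⟶ l := IsFiltered.rightToMax i k
        let diff : QCohLib.HU (S.X₃.obj l) q U := z.comp (Ext.mk₀ (S.X₃.map a)) (add_zero q) -
          (t.comp (Ext.mk₀ (S.X₂.map b)) (add_zero q)).comp (Ext.mk₀ (S.g.app l)) (add_zero q)
        have hd : diff.comp (Ext.mk₀ (colimit.ι S.X₃ l)) (add_zero q) = 0 := by
          simp only [diff, sub_comp, Ext.comp_assoc_of_third_deg_zero, Ext.mk₀_comp_mk₀, colimit.w]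
          rw [sub_eq_zero]
          refine hw.symm.trans ?_
          refine (Ext.comp_assoc_of_third_deg_zero _ _ _ _).trans ?_
          rw [Ext.mk₀_comp_mk₀]
          refine congrArg (fun f => t.comp (Ext.mk₀ f) (add_zero q)) ?_
          exact ((colimit.w S.X₂ b).symm =≫ S'.g).trans ((Category.assoc _ _ _).trans
            ((whisker_eq (S.X₂.map b) (φ l).comm₂₃).trans (Category.assoc _ _ _).symm))
        obtain ⟨m, d, hm⟩ := h3i l diff hd
        refine ⟨m, a ≫ d, ?_⟩
        have hz : z.comp (Ext.mk₀ (S.X₃.map (a ≫ d))) (add_zero q) =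
            (t.comp (Ext.mk₀ (S.X₂.map (b ≫ d))) (add_zero q)).comp (Ext.mk₀ (Sj m).g) (add_zero q) := by
          simp only [diff, sub_comp, Ext.comp_assoc_of_third_deg_zero, Ext.mk₀_comp_mk₀, sub_eq_zero] at hm
          simp only [Ext.comp_assoc_of_third_deg_zero, Ext.mk₀_comp_mk₀, Functor.map_comp]
          refine hm.trans (congrArg (fun f => t.comp (Ext.mk₀ f) (add_zero q)) ?_)
          exact (whisker_eq (S.X₂.map b) (φm d).comm₂₃.symm).trans (Category.assoc _ _ _).symm
        refine (Ext.comp_assoc_of_third_deg_zero _ _ _ _).trans ?_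
        refine (congrArg (fun w => z.comp w rfl)
          (ShortComplex.ShortExact.extClass_naturality (hSj i) (hSj m) (φm (a ≫ d)))).trans ?_
        refine (Ext.comp_assoc_of_second_deg_zero _ _ _ _).symm.trans ?_
        refine (congrArg (fun w => Ext.comp w (hSj m).extClass rfl) hz).trans ?_
        rw [Ext.comp_assoc_of_second_deg_zero, ShortComplex.ShortExact.comp_extClass, Ext.comp_zero]
    have e := (colimit.isColimit D).coconePointUniqueUpToIso hc
    have he : ∀ i, colimit.ι D i ≫ ((colimit.isColimit D).coconePointUniqueUpToIso hc).hom = c.ι.app i :=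
      fun i => IsColimit.comp_coconePointUniqueUpToIso_hom _ _ _
    refine ⟨fun x => ?_, fun i y hy => main.2 i y ?_⟩
    · obtain ⟨i, y, hy⟩ := main.1 (x.comp (Ext.mk₀ ((colimit.isColimit D).coconePointUniqueUpToIso hc).inv) (add_zero _))
      refine ⟨i, y, ?_⟩
      have h2 := congrArg (fun w => Ext.comp w (Ext.mk₀ ((colimit.isColimit D).coconePointUniqueUpToIso hc).hom) (add_zero _)) hy
      simp only [Ext.comp_assoc_of_third_deg_zero, Ext.mk₀_comp_mk₀, Iso.inv_hom_id, Ext.comp_mk₀_id] at h2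
      rw [← he i]
      exact h2
    · have h2 := congrArg (fun w => Ext.comp w (Ext.mk₀ ((colimit.isColimit D).coconePointUniqueUpToIso hc).inv) (add_zero _)) hy
      simp only [Ext.comp_assoc_of_third_deg_zero, Ext.mk₀_comp_mk₀, Ext.zero_comp, ← he i, Category.assoc,
        Iso.hom_inv_id, Category.comp_id] at h2
      exact h2

theorem preservesColimit_cohomology (D : J ⥤ QCohLib.AbSh X) (q : ℕ) :
    PreservesColimit D ((Sheaf.cohomologyPresheafFunctor (Opens.grothendieckTopology X) q).flip.obj (op U) :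
      CohTop.Ab X ⥤ AddCommGrpCat.{u}) := by
  refine ⟨fun {c} hc => ⟨?_⟩⟩
  obtain ⟨hs, hi⟩ := prop₁ U hU hqsU q D c hc
  let H := ((Sheaf.cohomologyPresheafFunctor (Opens.grothendieckTopology X) q).flip.obj (op U) :
      CohTop.Ab X ⥤ AddCommGrpCat.{u})
  haveI : ReflectsColimitsOfShape J (forget AddCommGrpCat.{u}) :=
    reflectsColimitsOfShape_of_reflectsIsomorphisms
  refine isColimitOfReflects (forget AddCommGrpCat.{u}) ?_
  refine Types.FilteredColimit.isColimitOf _ _ (fun x => ?_) (fun i j x y hxy => ?_)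
  · obtain ⟨i, y, hy⟩ := hs x
    exact ⟨i, y, hy.symm⟩
  · let l := IsFiltered.max i j
    let a : i ⟶ l := IsFiltered.leftToMax i j
    let b : j ⟶ l := IsFiltered.rightToMax i j
    obtain ⟨m, d, hd⟩ := hi l (Ext.comp (x : QCohLib.HU (D.obj i) q U) (Ext.mk₀ (D.map a)) (add_zero q) -
        Ext.comp (y : QCohLib.HU (D.obj j) q U) (Ext.mk₀ (D.map b)) (add_zero q)) (by
      simp only [sub_comp, Ext.comp_assoc_of_third_deg_zero, Ext.mk₀_comp_mk₀, Cocone.w, sub_eq_zero]
      exact hxy)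
    refine ⟨m, a ≫ d, b ≫ d, ?_⟩
    simp only [sub_comp, Ext.comp_assoc_of_third_deg_zero, Ext.mk₀_comp_mk₀, ← Functor.map_comp,
      sub_eq_zero] at hd
    exact hd

end Main

end ColimQsLib
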